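import Mathlib
import Groth.Prelude.Def_MoreMor

/-!
# Every quasi-compact quasi-separated scheme has a finite affine stratification
-/

set_option autoImplicit false

universe u

open CategoryTheory AlgebraicGeometry TopologicalSpace

namespace Groth.Agent.AffStrat

variable {X : Scheme.{u}}

/-- Two affine opens inside a common affine open meet in an affine open. -/
theorem inter_affine {A D c : X.Opens} (hA : IsAffineOpen A) (hD : IsAffineOpen D) (hc : IsAffineOpen c)
    (hDA : D ≤ A) (hcA : c ≤ A) : IsAffineOpen (D ⊓ c) := by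
  haveI : IsAffine A.toScheme := hA
  have key : ∀ E : X.Opens, IsAffineOpen E → E ≤ A → IsAffineOpen (A.ι ⁻¹ᵁ E) := fun E hE hle =>
    hE.preimage_of_isOpenImmersion A.ι (by rwa [Scheme.Opens.opensRange_ι])
  have h := (((key D hD hDA).inf (key c hc hcA))).image_of_isOpenImmersion A.ι
  rwa [← Scheme.Hom.preimage_inf, Scheme.Hom.image_preimage_eq_opensRange_inf, Scheme.Opens.opensRange_ι,
    inf_eq_right.2 (inf_le_left.trans hDA)] at h

variable {α κ : Type} [Fintype κ] (U : α → X.Opens) (c : κ → X.Opens)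

open Classical in
/-- The members of the family containing a point. -/
noncomputable def pat (x : X) : Finset κ := Finset.univ.filter fun k => x ∈ c k

theorem mem_pat {x : X} {k : κ} : k ∈ pat c x ↔ x ∈ c k := by simp [pat]

/-- The intersection of the members of a pattern is affine. -/
theorem exists_affine_atom (hU : ∀ i, IsAffineOpen (U i)) (hc : ∀ k, IsAffineOpen (c k))
    (hcU : ∀ k, ∃ i, c k ≤ U i) (hmem : ∀ i, ∃ k, c k = U i) (hcov : ∀ x, ∃ i, x ∈ U i)
    (hint : ∀ i j (x : X), x ∈ U i → x ∈ U j → ∃ k, x ∈ c k ∧ c k ≤ U i ∧ c k ≤ U j) (x : X) :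
    ∃ A : X.Opens, IsAffineOpen A ∧ ∀ y, y ∈ A ↔ pat c x ⊆ pat c y := by
  classical
  obtain ⟨i₀, hi₀⟩ := hcov x
  obtain ⟨k₀, hk₀⟩ := hmem i₀
  -- first shrink inside `U i₀`
  have stepA : ∀ S : Finset κ, (∀ k ∈ S, c k ≤ U i₀) → ∃ A : X.Opens, IsAffineOpen A ∧
      A ≤ U i₀ ∧ ∀ y, y ∈ A ↔ y ∈ U i₀ ∧ ∀ k ∈ S, y ∈ c k := by
    intro S
    induction S using Finset.induction_on with
    | empty => intro _; exact ⟨U i₀, hU i₀, le_rfl, by simp⟩
    | insert a S ha ih =>
      intro h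
      obtain ⟨A, h1, h2, h3⟩ := ih fun k hk => h k (Finset.mem_insert_of_mem hk)
      refine ⟨c a ⊓ A, inter_affine (hU i₀) (hc a) h1 (h a (Finset.mem_insert_self a S)) h2,
        inf_le_right.trans h2, fun y => ?_⟩
      rw [TopologicalSpace.Opens.mem_inf, h3, Finset.forall_mem_insert]
      tauto
  obtain ⟨D, hDa, -, hDm⟩ := stepA ((pat c x).filter fun k => c k ≤ U i₀) fun k hk => (Finset.mem_filter.1 hk).2
  -- then cut by the remaining members
  have stepB : ∀ S : Finset κ, S ⊆ pat c x → ∃ A : X.Opens, IsAffineOpen A ∧ A ≤ D ∧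
      ∀ y, y ∈ A ↔ y ∈ D ∧ ∀ k ∈ S, y ∈ c k := by
    intro S
    induction S using Finset.induction_on with
    | empty => intro _; exact ⟨D, hDa, le_rfl, by simp⟩
    | insert a S ha ih =>
      intro h
      obtain ⟨A, h1, h2, h3⟩ := ih fun k hk => h (Finset.mem_insert_of_mem hk)
      obtain ⟨j, hj⟩ := hcU a
      obtain ⟨d, hd1, hd2, hd3⟩ := hint i₀ j x hi₀ (hj ((mem_pat c).1 (h (Finset.mem_insert_self a S))))
      have hAj : A ≤ U j := fun y hy => hd3 (((hDm y).1 (h2 hy)).2 d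
        (Finset.mem_filter.2 ⟨(mem_pat c).2 hd1, hd2⟩))
      refine ⟨c a ⊓ A, inter_affine (hU j) (hc a) h1 hj hAj, inf_le_right.trans h2, fun y => ?_⟩
      rw [TopologicalSpace.Opens.mem_inf, h3, Finset.forall_mem_insert]
      tauto
  obtain ⟨A, h1, -, h3⟩ := stepB _ (Finset.Subset.refl _)
  refine ⟨A, h1, fun y => ⟨fun hy k hk => (mem_pat c).2 (((h3 y).1 hy).2 k hk), fun hy => ?_⟩⟩
  have hin : ∀ k ∈ pat c x, y ∈ c k := fun k hk => (mem_pat c).1 (hy hk)
  exact (h3 y).2 ⟨(hDm y).2 ⟨hk₀ ▸ hin k₀ ((mem_pat c).2 (hk₀ ▸ hi₀)),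
    fun k hk => hin k (Finset.mem_filter.1 hk).1⟩, hin⟩

/-- The stratification by patterns. -/
theorem hasAffineStratification_of_family (hU : ∀ i, IsAffineOpen (U i)) (hc : ∀ k, IsAffineOpen (c k))
    (hcU : ∀ k, ∃ i, c k ≤ U i) (hmem : ∀ i, ∃ k, c k = U i) (hcov : ∀ x, ∃ i, x ∈ U i)
    (hint : ∀ i j (x : X), x ∈ U i → x ∈ U j → ∃ k, x ∈ c k ∧ c k ≤ U i ∧ c k ≤ U j) :
    ∃ n, MoreMor.HasAffineStratification X n := by
  classical
  let e : κ ↪ ℕ := (Fintype.equivFin κ).toEmbedding.trans Fin.valEmbedding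
  let g : Finset κ → ℕ := fun T => ∑ i ∈ T.map e, 2 ^ i
  have ginj : Function.Injective g := fun T T' h =>
    Finset.map_injective e (Finset.geomSum_injective le_rfl h)
  have gmono : ∀ T T' : Finset κ, T ⊆ T' → g T ≤ g T' := fun T T' h =>
    Finset.sum_le_sum_of_subset (Finset.map_subset_map.2 h)
  refine ⟨g Finset.univ, fun x => ⟨g (pat c x), Nat.lt_succ_of_le (gmono _ _ (Finset.subset_univ _))⟩,
    fun i => ?_, fun i => ?_⟩
  · rw [← isOpen_compl_iff, isOpen_iff_forall_mem_open]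
    intro x hx
    refine ⟨⋂ k ∈ pat c x, (c k : Set X), ?_, isOpen_biInter_finset fun k _ => (c k).isOpen,
      Set.mem_iInter₂.2 fun k hk => (mem_pat c).1 hk⟩
    intro y hy hyi
    exact hx ((Fin.mk_le_mk.2 (gmono _ _ fun k hk => (mem_pat c).2 (Set.mem_iInter₂.1 hy k hk))).trans hyi : _ ≤ i)
  · by_cases hex : ∃ x, (⟨g (pat c x), Nat.lt_succ_of_le (gmono _ _ (Finset.subset_univ _))⟩ :
      Fin (g Finset.univ + 1)) = i
    · obtain ⟨x, hx⟩ := hex
      obtain ⟨A, hA, hAm⟩ := exists_affine_atom U c hU hc hcU hmem hcov hint x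
      haveI : IsAffine A.toScheme := hA
      let O : X.Opens := ⨆ k : {k : κ // k ∉ pat c x}, c k
      let Z : Closeds A.toScheme := ⟨A.ι ⁻¹' (O : Set X)ᶜ, O.isOpen.isClosed_compl.preimage A.ι.continuous⟩
      let I := Scheme.IdealSheafData.vanishingIdeal Z
      haveI : IsAffine I.subscheme := isAffine_of_isAffineHom I.subschemeι
      have hsub : ∀ y, pat c y ⊆ pat c x ↔ y ∉ O := by
        intro y
        constructor
        · intro h hy
          obtain ⟨⟨k, hk⟩, hyk⟩ := TopologicalSpace.Opens.mem_iSup.1 hy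
          exact hk (h ((mem_pat c).2 hyk))
        · intro h k hk
          by_contra hkx
          exact h (TopologicalSpace.Opens.mem_iSup.2 ⟨⟨k, hkx⟩, (mem_pat c).1 hk⟩)
      have hrange : Set.range (I.subschemeι ≫ A.ι) = {y | pat c y = pat c x} := by
        rw [Scheme.Hom.comp_base, TopCat.coe_comp, Set.range_comp, Scheme.IdealSheafData.range_subschemeι,
          Scheme.IdealSheafData.coe_support_vanishingIdeal]
        ext y
        constructor
        · rintro ⟨a, ha, rfl⟩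
          exact Finset.Subset.antisymm ((hsub _).2 ha) ((hAm _).1 a.2)
        · intro hy
          have hyA : y ∈ A := (hAm y).2 (hy ▸ Finset.Subset.refl _)
          exact ⟨⟨y, hyA⟩, (hsub y).1 (hy ▸ Finset.Subset.refl _), rfl⟩
      refine ⟨I.subscheme, I.subschemeι ≫ A.ι, inferInstance, inferInstance, ?_, ?_⟩
      · refine isAffineHom_of_forall_exists_isAffineOpen _ fun y => ?_
        obtain ⟨j, hj⟩ := hcov y
        obtain ⟨k, hk⟩ := hmem j
        refine ⟨U j, hj, hU j, ?_⟩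
        by_cases hkx : k ∈ pat c x
        · rw [show (I.subschemeι ≫ A.ι) ⁻¹ᵁ U j = ⊤ from top_le_iff.1 fun z _ => ?_]
          · exact isAffineOpen_top _
          · have hz : (I.subschemeι ≫ A.ι) z ∈ {y | pat c y = pat c x} := hrange ▸ Set.mem_range_self z
            change (I.subschemeι ≫ A.ι) z ∈ U j
            rw [← hk]
            exact (mem_pat c).1 (hz.symm ▸ hkx)
        · rw [show (I.subschemeι ≫ A.ι) ⁻¹ᵁ U j = ⊥ from le_bot_iff.1 fun z hzU => ?_]
          · exact isAffineOpen_bot _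
          · have hz : (I.subschemeι ≫ A.ι) z ∈ {y | pat c y = pat c x} := hrange ▸ Set.mem_range_self z
            exact hkx (hz ▸ (mem_pat c).2 (hk ▸ hzU))
      · rw [hrange]
        ext y
        simp only [Set.mem_setOf_eq, ← hx, Fin.mk.injEq]
        exact ginj.eq_iff.symm
    · haveI : IsAffine (⊥ : X.Opens).toScheme := isAffineOpen_bot X
      refine ⟨(⊥ : X.Opens).toScheme, (⊥ : X.Opens).ι, inferInstance, inferInstance, ?_, ?_⟩
      · refine isAffineHom_of_forall_exists_isAffineOpen _ fun y => ?_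
        obtain ⟨j, hj⟩ := hcov y
        refine ⟨U j, hj, hU j, ?_⟩
        rw [show (⊥ : X.Opens).ι ⁻¹ᵁ U j = ⊥ from le_bot_iff.1 fun z _ => z.2.elim]
        exact isAffineOpen_bot _
      · rw [Scheme.Opens.range_ι]
        ext y
        exact iff_of_false (fun h => h.elim) fun h => hex ⟨y, h⟩

/-- A quasi-compact quasi-separated scheme has a finite affine stratification. -/
theorem exists_stratification (X : Scheme.{u}) [CompactSpace X] [QuasiSeparatedSpace X] :
    ∃ n, MoreMor.HasAffineStratification X n := by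
  classical
  choose V hVa hxV _ using fun x : X =>
    exists_isAffineOpen_mem_and_subset (x := x) (U := (⊤ : X.Opens)) trivial
  obtain ⟨t, ht⟩ := CompactSpace.elim_nhds_subcover (fun x : X => (V x : Set X))
    fun x => (V x).isOpen.mem_nhds (hxV x)
  have hcov : ∀ x : X, ∃ i : Fin t.card, x ∈ V (t.equivFin.symm i).1 := by
    intro x
    have hx : x ∈ ⋃ a ∈ t, (V a : Set X) := ht ▸ Set.mem_univ x
    obtain ⟨a, hat, hxa⟩ := Set.mem_iUnion₂.1 hx
    exact ⟨t.equivFin ⟨a, hat⟩, by simpa using hxa⟩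
  let U : Fin t.card → X.Opens := fun i => V (t.equivFin.symm i).1
  have hfin : ∀ p : Fin t.card × Fin t.card, ∃ (m : ℕ) (W : Fin m → X.Opens),
      (∀ k, IsAffineOpen (W k) ∧ W k ≤ U p.1 ⊓ U p.2) ∧ ∀ x ∈ U p.1 ⊓ U p.2, ∃ k, x ∈ W k := by
    intro p
    have hK : IsCompact ((U p.1 ⊓ U p.2 : X.Opens) : Set X) :=
      QuasiSeparatedSpace.inter_isCompact _ _ (U p.1).isOpen (hVa _).isCompact (U p.2).isOpen (hVa _).isCompact
    choose W hWa hxW hWle using fun x : (U p.1 ⊓ U p.2 : X.Opens) =>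
      exists_isAffineOpen_mem_and_subset (x := x.1) (U := U p.1 ⊓ U p.2) x.2
    obtain ⟨s, hs⟩ := hK.elim_finite_subcover (fun x => (W x : Set X)) (fun x => (W x).isOpen)
      fun x hx => Set.mem_iUnion.2 ⟨⟨x, hx⟩, hxW _⟩
    refine ⟨s.card, fun k => W (s.equivFin.symm k).1, fun k => ⟨hWa _, hWle _⟩, fun x hx => ?_⟩
    obtain ⟨a, has, hxa⟩ := Set.mem_iUnion₂.1 (hs hx)
    exact ⟨s.equivFin ⟨a, has⟩, by simpa using hxa⟩
  choose m W hW hWcov using hfin
  refine hasAffineStratification_of_family U (Sum.elim U fun q : Σ p, Fin (m p) => W q.1 q.2)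
    (fun i => hVa _) ?_ ?_ (fun i => ⟨Sum.inl i, rfl⟩) hcov fun i j x hi hj => ?_
  · rintro (i | q)
    exacts [hVa _, (hW q.1 q.2).1]
  · rintro (i | q)
    exacts [⟨i, le_rfl⟩, ⟨q.1.1, (hW q.1 q.2).2.trans inf_le_left⟩]
  · obtain ⟨k, hk⟩ := hWcov (i, j) x ⟨hi, hj⟩
    exact ⟨Sum.inr ⟨(i, j), k⟩, hk, (hW (i, j) k).2.trans inf_le_left, (hW (i, j) k).2.trans inf_le_right⟩

end Groth.Agent.AffStrat
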