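import Mathlib
import Groth.Prelude.Def_MoreMor

/-!
# Quasi-compact quasi-separated schemes have affine stratifications

Order finitely many affine opens covering the scheme.  Points are stratified by the first open containing them and
by the basic opens of that open cutting out its intersections with the other opens.
-/

set_option autoImplicit false
set_option linter.style.haveILetI false

universe u

open AlgebraicGeometry CategoryTheory

namespace Groth.Agent.AffStrat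

variable {X : Scheme.{u}}

/-- The intersection of two affine opens is a finite union of basic opens of the first. -/
theorem exists_finite_basicOpen [QuasiSeparatedSpace X] {U V : X.Opens} (hU : IsAffineOpen U) (hV : IsAffineOpen V) :
    ∃ t : Finset Γ(X, U), ∀ x ∈ U, x ∈ V ↔ ∃ g ∈ t, X.basicOpen g ≤ V ∧ x ∈ X.basicOpen g := by
  classical
  have hc : IsCompact ((U : Set X) ∩ V) :=
    QuasiSeparatedSpace.inter_isCompact _ _ U.isOpen hU.isCompact V.isOpen hV.isCompact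
  choose g hgV hxg using fun x : ↥((U : Set X) ∩ V) =>
    hU.exists_basicOpen_le (V := V) ⟨x.1, x.2.2⟩ x.2.1
  obtain ⟨t, ht⟩ := hc.elim_finite_subcover (fun x => (X.basicOpen (g x) : Set X))
    (fun x => (X.basicOpen (g x)).isOpen) fun x hx => Set.mem_iUnion.2 ⟨⟨x, hx⟩, hxg _⟩
  refine ⟨t.image g, fun x hx => ⟨fun hxV => ?_, fun ⟨_, _, hle, hxg'⟩ => hle hxg'⟩⟩
  obtain ⟨i, hi, hxi⟩ := Set.mem_iUnion₂.1 (ht ⟨hx, hxV⟩)
  exact ⟨g i, Finset.mem_image_of_mem g hi, hgV i, hxi⟩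

/-- A level set of a stratification which is relatively closed in an affine open and separates no member of an
affine cover is an affine immersion with affine inclusion. -/
theorem exists_stratum {ι : Type*} (U : ι → X.Opens) (hU : ∀ j, IsAffineOpen (U j)) (hcov : ∀ x, ∃ j, x ∈ U j)
    (S : Set X) (O : X.Opens) (hO : IsAffineOpen O) (hSO : S ⊆ O) (C : Set X) (hC : IsClosed C)
    (hS : S = (O : Set X) ∩ C) (hsep : ∀ j, S ⊆ U j ∨ Disjoint S (U j)) :
    ∃ (Z : Scheme.{u}) (i : Z ⟶ X), IsImmersion i ∧ IsAffine Z ∧ IsAffineHom i ∧ Set.range i = S := by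
  haveI : IsAffine (O : Scheme.{u}) := hO
  let T : TopologicalSpace.Closeds (O : Scheme.{u}) := ⟨O.ι ⁻¹' C, hC.preimage O.ι.continuous⟩
  let I := Scheme.IdealSheafData.vanishingIdeal T
  let i : I.subscheme ⟶ X := I.subschemeι ≫ O.ι
  haveI : IsAffine I.subscheme := isAffine_of_isAffineHom I.subschemeι
  have hr : Set.range i = S := by
    have h : Set.range i = O.ι '' Set.range I.subschemeι := by
      rw [← Set.range_comp]
      rfl
    rw [h, Scheme.IdealSheafData.range_subschemeι, Scheme.IdealSheafData.coe_support_vanishingIdeal, hS]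
    ext x
    exact ⟨fun ⟨y, hy, hyx⟩ => hyx ▸ ⟨y.2, hy⟩, fun ⟨hxO, hxC⟩ => ⟨⟨x, hxO⟩, hxC, rfl⟩⟩
  refine ⟨I.subscheme, i, inferInstance, inferInstance, ?_, hr⟩
  refine isAffineHom_of_forall_exists_isAffineOpen i fun x => ?_
  obtain ⟨j, hj⟩ := hcov x
  refine ⟨U j, hj, hU j, ?_⟩
  rcases hsep j with h | h
  · have : i ⁻¹ᵁ U j = ⊤ := top_le_iff.1 fun z _ => h (hr ▸ Set.mem_range_self z)
    rw [this]
    exact isAffineOpen_top _
  · have : i ⁻¹ᵁ U j = ⊥ := le_bot_iff.1 fun z hz => (Set.disjoint_left.1 h (hr ▸ Set.mem_range_self z) hz).elim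
    rw [this]
    exact isAffineOpen_bot _

/-- A quasi-compact quasi-separated scheme has a finite affine stratification. -/
theorem exists_of_qcqs (X : Scheme.{u}) [CompactSpace X] [QuasiSeparatedSpace X] :
    ∃ n : ℕ, MoreMor.HasAffineStratification X n := by
  classical
  obtain ⟨t, ht⟩ := isCompact_univ.elim_finite_subcover (fun U : X.affineOpens => (U.1 : Set X))
    (fun U => U.1.isOpen) fun x _ => by
      obtain ⟨U, hU, hxU, -⟩ := exists_isAffineOpen_mem_and_subset (X := X) (x := x) (U := ⊤) trivial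
      exact Set.mem_iUnion.2 ⟨⟨U, hU⟩, hxU⟩
  let U : Fin t.card → X.Opens := fun k => (t.equivFin.symm k).1.1
  have hU : ∀ k, IsAffineOpen (U k) := fun k => (t.equivFin.symm k).1.2
  have hcov : ∀ x : X, ∃ k, x ∈ U k := fun x => by
    obtain ⟨V, hV, hx⟩ := Set.mem_iUnion₂.1 (ht (Set.mem_univ x))
    exact ⟨t.equivFin ⟨V, hV⟩, by simpa [U] using hx⟩
  choose g hg using fun k j => exists_finite_basicOpen (hU k) (hU j)
  let G : ∀ k, Finset Γ(X, U k) := fun k => Finset.univ.biUnion (g k)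
  let E := Σ k, (G k : Finset Γ(X, U k))
  let D : E → X.Opens := fun e => X.basicOpen e.2.1
  have hfin : ∀ x : X, (Finset.univ.filter fun k => x ∈ U k).Nonempty := fun x =>
    let ⟨k, hk⟩ := hcov x
    ⟨k, by simp [hk]⟩
  let k₀ : X → Fin t.card := fun x => (Finset.univ.filter fun k => x ∈ U k).min' (hfin x)
  have hk₀ : ∀ x, x ∈ U (k₀ x) := fun x =>
    (Finset.mem_filter.1 ((Finset.univ.filter fun k => x ∈ U k).min'_mem (hfin x))).2
  have hk₀le : ∀ x k, x ∈ U k → k₀ x ≤ k := fun x k hk => Finset.min'_le _ _ (by simp [hk])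
  let σ : X → Finset E := fun x => Finset.univ.filter fun e => e.1 = k₀ x ∧ x ∈ D e
  let P := (Fin t.card)ᵒᵈ ×ₗ LinearExtension (Finset E)
  let p : X → P := fun x => toLex (OrderDual.toDual (k₀ x), toLinearExtension (σ x))
  have hmono : ∀ x : X, ∃ W : X.Opens, x ∈ W ∧ ∀ y ∈ W, p x ≤ p y := fun x => by
    let A := (U (k₀ x) : Set X) ∩ ⋂ e ∈ σ x, (D e : Set X)
    have hA : IsOpen A := (U (k₀ x)).isOpen.inter (isOpen_biInter_finset fun e _ => (D e).isOpen)
    refine ⟨⟨A, hA⟩, ⟨hk₀ x, Set.mem_iInter₂.2 fun e he => (Finset.mem_filter.1 he).2.2⟩, fun y hy => ?_⟩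
    rcases (hk₀le y _ hy.1).lt_or_eq with h | h
    · exact Prod.Lex.toLex_le_toLex.2 (Or.inl h)
    · refine Prod.Lex.toLex_le_toLex.2 (Or.inr ⟨congrArg OrderDual.toDual h.symm, ?_⟩)
      refine toLinearExtension.monotone fun e he => Finset.mem_filter.2 ⟨Finset.mem_univ e, ?_, ?_⟩
      · rw [h]; exact (Finset.mem_filter.1 he).2.1
      · exact Set.mem_iInter₂.1 hy.2 e he
  haveI : Fintype (LinearExtension (Finset E)) := inferInstanceAs (Fintype (Finset E))
  haveI : Fintype P := Fintype.ofEquiv ((Fin t.card)ᵒᵈ × LinearExtension (Finset E)) toLex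
  let e := Fintype.orderIsoFinOfCardEq P rfl
  refine ⟨Fintype.card P, fun x => (e.symm (p x)).castSucc, fun i => ?_, fun i => ?_⟩
  · rw [← isOpen_compl_iff, isOpen_iff_forall_mem_open]
    intro x hx
    obtain ⟨W, hxW, hW⟩ := hmono x
    refine ⟨W, fun y hy hle => hx ?_, W.isOpen, hxW⟩
    exact le_trans (Fin.castSucc_le_castSucc_iff.2 (e.symm.monotone (hW y hy))) hle
  by_cases hne : ∃ x₀ : X, (e.symm (p x₀)).castSucc = i
  swap
  · refine exists_stratum U hU hcov _ ⊥ (isAffineOpen_bot X) (fun x hx => (hne ⟨x, hx⟩).elim) ∅ isClosed_empty ?_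
      fun j => Or.inr (Set.disjoint_left.2 fun x hx _ => hne ⟨x, hx⟩)
    ext x
    exact ⟨fun hx => (hne ⟨x, hx⟩).elim, fun hx => hx.2.elim⟩
  obtain ⟨x₀, rfl⟩ := hne
  have hp : ∀ x, (e.symm (p x)).castSucc = (e.symm (p x₀)).castSucc ↔ k₀ x = k₀ x₀ ∧ σ x = σ x₀ := fun x => by
    rw [Fin.castSucc_inj, e.symm.injective.eq_iff]
    constructor
    · intro h
      have h' := congrArg ofLex h
      exact ⟨congrArg (fun q => OrderDual.ofDual q.1) h', congrArg Prod.snd h'⟩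
    · rintro ⟨h1, h2⟩
      show toLex (OrderDual.toDual (k₀ x), toLinearExtension (σ x)) = _
      rw [h1, h2]
  let k := k₀ x₀
  let f : Γ(X, U k) := ∏ a : (G k : Finset Γ(X, U k)), if ⟨k, a⟩ ∈ σ x₀ then a.1 else 1
  have hf : ∀ x ∈ U k, x ∈ X.basicOpen f ↔ ∀ a, (⟨k, a⟩ : E) ∈ σ x₀ → x ∈ D ⟨k, a⟩ := fun x hx => by
    rw [Scheme.mem_basicOpen _ _ x hx, map_prod, IsUnit.prod_iff]
    refine ⟨fun h a ha => ?_, fun h a _ => ?_⟩
    · have := h a (Finset.mem_univ a)
      rw [if_pos ha] at this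
      exact (Scheme.mem_basicOpen _ _ x hx).2 this
    · split_ifs with ha
      · exact (Scheme.mem_basicOpen _ _ x hx).1 (h a ha)
      · rw [map_one]; exact isUnit_one
  let C : Set X := ((⋃ j ∈ {j : Fin t.card | j < k}, (U j : Set X)) ∪
    ⋃ a ∈ {a : (G k : Finset Γ(X, U k)) | (⟨k, a⟩ : E) ∉ σ x₀}, (D ⟨k, a⟩ : Set X))ᶜ
  have hchar : ∀ x, (k₀ x = k ∧ σ x = σ x₀) ↔ x ∈ X.basicOpen f ∧ x ∈ C := fun x => by
    constructor
    · rintro ⟨hk, hσ⟩
      have hxk : x ∈ U k := hk ▸ hk₀ x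
      refine ⟨(hf x hxk).2 fun a ha => (Finset.mem_filter.1 (hσ ▸ ha : _ ∈ σ x)).2.2, ?_⟩
      rintro (h | h)
      · obtain ⟨j, hj, hxj⟩ := Set.mem_iUnion₂.1 h
        exact absurd (hk ▸ hk₀le x j hxj) (not_le.2 hj)
      · obtain ⟨a, ha, hxa⟩ := Set.mem_iUnion₂.1 h
        exact ha (hσ ▸ (Finset.mem_filter.2 ⟨Finset.mem_univ _, hk.symm, hxa⟩ : (⟨k, a⟩ : E) ∈ σ x))
    · rintro ⟨hxf, hxC⟩
      have hxk : x ∈ U k := X.basicOpen_le f hxf
      have hk : k₀ x = k := (hk₀le x k hxk).antisymm (not_lt.1 fun h =>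
        hxC (Or.inl (Set.mem_iUnion₂.2 ⟨k₀ x, h, hk₀ x⟩)))
      refine ⟨hk, Finset.ext fun ⟨j, a⟩ => ⟨fun ha => ?_, fun ha => ?_⟩⟩
      · obtain ⟨-, hj, hxa⟩ := Finset.mem_filter.1 ha
        obtain rfl : j = k := hj.trans hk
        by_contra hna
        exact hxC (Or.inr (Set.mem_iUnion₂.2 ⟨a, hna, hxa⟩))
      · obtain ⟨-, hj, -⟩ := Finset.mem_filter.1 ha
        obtain rfl : j = k := hj
        exact Finset.mem_filter.2 ⟨Finset.mem_univ _, hk.symm, (hf x hxk).1 hxf a ha⟩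
  refine exists_stratum U hU hcov _ (X.basicOpen f) ((hU k).basicOpen f)
    (fun x hx => ((hchar x).1 ((hp x).1 hx)).1) C ?_
    (Set.ext fun x => ⟨fun hx => (hchar x).1 ((hp x).1 hx), fun hx => (hp x).2 ((hchar x).2 hx)⟩) fun j => ?_
  · exact ((isOpen_biUnion fun j _ => (U j).isOpen).union (isOpen_biUnion fun a _ => (D ⟨k, a⟩).isOpen)).isClosed_compl
  · by_cases hj : ∃ a : (G k : Finset Γ(X, U k)), (⟨k, a⟩ : E) ∈ σ x₀ ∧ a.1 ∈ g k j ∧ X.basicOpen a.1 ≤ U j
    · obtain ⟨a, ha, -, hle⟩ := hj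
      refine Or.inl fun x hx => hle ?_
      obtain ⟨-, hσ⟩ := (hp x).1 hx
      exact (Finset.mem_filter.1 (hσ ▸ ha : _ ∈ σ x)).2.2
    · refine Or.inr (Set.disjoint_left.2 fun x hx hxj => ?_)
      obtain ⟨hk, hσ⟩ := (hp x).1 hx
      obtain ⟨a, ha, hle, hxa⟩ := (hg k j x ((show k₀ x = k from hk) ▸ hk₀ x)).1 hxj
      have haG : a ∈ G k := Finset.mem_biUnion.2 ⟨j, Finset.mem_univ j, ha⟩
      exact hj ⟨⟨a, haG⟩, hσ ▸ (Finset.mem_filter.2 ⟨Finset.mem_univ _, hk.symm, hxa⟩ :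
        (⟨k, ⟨a, haG⟩⟩ : E) ∈ σ x), ha, hle⟩

end Groth.Agent.AffStrat
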