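import Groth.Agent.QcqsColim.FTSub
import Groth.Agent.QCoh.AffineCohom
import Groth.Agent.QCoh.OpenSub
import Groth.Agent.QCoh.AnnIdeal
import Groth.Agent.QCoh.ClosedPush
import Groth.Agent.QCoh.Qcqs
import Groth.Agent.QCoh.Pullback
import Groth.Agent.Lib.CurveVanish
import Groth.Agent.MorLib.Thick.Affine
import Groth.Agent.MorLib.Thick.QuasiAffine
import Groth.Prelude.Def_MoreMor

/-!
# Vanishing of cohomology above the affine stratification number
-/

set_option autoImplicit false
set_option backward.isDefEq.respectTransparency false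

universe u

open CategoryTheory CategoryTheory.Limits AlgebraicGeometry TopologicalSpace Opposite
open Groth.Agent.QCoh

namespace Groth.Agent.AffStrat

variable {X : Scheme.{u}}

/-- A scheme with an affine stratification is quasi-compact and quasi-separated. -/
theorem qcqs {n : ℕ} (hX : MoreMor.HasAffineStratification X n) :
    CompactSpace X ∧ QuasiSeparatedSpace X := by
  obtain ⟨s, -, hs⟩ := hX
  choose Z ι hι hZ hA hr using hs
  have hcov : ∀ A : Set X, A = ⋃ i, ι i '' (ι i ⁻¹' A) := fun A => by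
    ext x
    simp only [Set.mem_iUnion, Set.image_preimage_eq_inter_range, hr, Set.mem_inter_iff, Set.mem_setOf_eq]
    exact ⟨fun h => ⟨s x, h, rfl⟩, fun ⟨_, h, _⟩ => h⟩
  refine ⟨⟨?_⟩, ⟨fun U V hUo hU hVo hV => ?_⟩⟩
  · rw [hcov Set.univ]
    refine isCompact_iUnion fun i => ?_
    haveI := hZ i
    rw [Set.preimage_univ]
    exact CompactSpace.isCompact_univ.image (ι i).continuous
  · rw [hcov (U ∩ V)]
    refine isCompact_iUnion fun i => ?_
    haveI := hZ i
    haveI := hA i
    rw [Set.preimage_inter]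
    exact (QuasiSeparatedSpace.inter_isCompact _ _ (hUo.preimage (ι i).continuous)
      ((ι i).isSpectralMap.2 hUo hU) (hVo.preimage (ι i).continuous)
      ((ι i).isSpectralMap.2 hVo hV)).image (ι i).continuous

/-- An open stratum of an affine stratification is an affine open with affine inclusion. -/
theorem open_stratum (U : X.Opens) {Z : Scheme.{u}} (ι : Z ⟶ X) [IsImmersion ι] [IsAffine Z] [IsAffineHom ι]
    (hr : Set.range ι = U) : IsAffineOpen U ∧ IsAffineHom U.ι := by
  let k : Z ⟶ U := IsOpenImmersion.lift U.ι ι (by rw [Scheme.Opens.range_ι, hr])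
  have hk : k ≫ U.ι = ι := IsOpenImmersion.lift_fac _ _ _
  haveI : IsImmersion (k ≫ U.ι) := hk.symm ▸ ‹IsImmersion ι›
  haveI : IsImmersion k := IsImmersion.of_comp k U.ι
  have hsurj : Function.Surjective k := fun z => by
    obtain ⟨w, hw⟩ : U.ι z ∈ Set.range ι := hr ▸ z.2
    exact ⟨w, U.ι.injective (by rw [← Scheme.Hom.comp_apply, hk, hw])⟩
  haveI : IsClosedImmersion k := IsClosedImmersion.of_isPreimmersion k (by
    rw [Set.range_eq_univ.2 hsurj]; exact isClosed_univ)
  haveI : IsAffineHom (k ≫ U.ι) := hk.symm ▸ ‹IsAffineHom ι›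
  refine ⟨MorLib.Thick.isAffine_of_thickening k hsurj, ⟨fun W hW => ?_⟩⟩
  exact MorLib.Thick.isAffineOpen_of_preimage k hsurj
    (by rw [← Scheme.Hom.comp_preimage]; exact hW.preimage (k ≫ U.ι))

/-- A module has no nonzero sections inside an open. -/
def ZeroOn (M : X.Modules) (U : X.Opens) : Prop :=
  ∀ V : X.Opens, IsAffineOpen V → V ≤ U → Subsingleton Γ(M, V)

theorem ZeroOn.of_mono {M N : X.Modules} (φ : M ⟶ N) [Mono φ] {U : X.Opens} (h : ZeroOn N U) : ZeroOn M U :=
  fun V hV hVU => haveI := h V hV hVU; (app_injective φ V).subsingleton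

theorem ZeroOn.support_subset {M : X.Modules} (hM : Coh.IsQCoh M) {U : X.Opens} (h : ZeroOn M U) :
    CohB1.support M ⊆ (U : Set X)ᶜ := by
  intro x hx hxU
  apply hx
  refine subsingleton_of_forall_eq 0 fun m => ?_
  obtain ⟨W, hxW, t, rfl⟩ := TopCat.Presheaf.exists_germ_eq M.presheaf m
  obtain ⟨V, hV, hxV, hVWU⟩ := exists_isAffineOpen_mem_and_subset (X := X) (x := x) (U := W ⊓ U) ⟨hxW, hxU⟩
  haveI := h V hV (fun y hy => (hVWU hy).2)
  rw [← TopCat.Presheaf.germ_res_apply M.presheaf (homOfLE (fun y hy => (hVWU hy).1 : V ≤ W)) x hxV t,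
    Subsingleton.elim (M.presheaf.map _ t) 0, map_zero]

/-- The unit of restriction to an open is bijective inside the open. -/
theorem bijective_unit_app (M : X.Modules) (U : X.Opens) {V : X.Opens} (hVU : V ≤ U) :
    Function.Bijective (((Scheme.Modules.restrictAdjunction U.ι).unit.app M).app V) := by
  rw [Scheme.Modules.restrictAdjunction_unit_app_app]
  have e : U.ι ''ᵁ (U.ι ⁻¹ᵁ V) = V :=
    Opens.ext (by
      rw [Scheme.Hom.coe_image, Scheme.Hom.coe_preimage, Set.image_preimage_eq_inter_range,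
        Scheme.Opens.range_ι, Set.inter_eq_left.2 hVU])
  haveI : IsIso (homOfLE (U.ι.image_preimage_le V)) := ⟨homOfLE e.ge, Subsingleton.elim _ _, Subsingleton.elim _ _⟩
  exact ConcreteCategory.bijective_of_isIso (M.presheaf.map (homOfLE (U.ι.image_preimage_le V)).op)

/-- The inductive statement. -/
def Vanishes (n : ℕ) : Prop :=
  ∀ (X : Scheme.{u}), MoreMor.HasAffineStratification X n → ∀ (F : X.Modules), Coh.IsQCoh F →
    ∀ p : ℕ, n < p → Subsingleton (Coh.HH X F p)

theorem vanishes_zero : Vanishes.{u} 0 := by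
  rintro X ⟨s, -, hs⟩ F hF p hp
  obtain ⟨Z, ι, hι, hZ, hA, hr⟩ := hs 0
  have hr' : Function.Surjective ι := Set.range_eq_univ.1 (hr.trans (Set.eq_univ_of_forall fun x => Fin.fin_one_eq_zero (s x)))
  haveI : IsClosedImmersion ι := IsClosedImmersion.of_isPreimmersion ι (by
    rw [Set.range_eq_univ.2 hr']; exact isClosed_univ)
  haveI := MorLib.Thick.isAffine_of_thickening ι hr'
  obtain ⟨m, rfl⟩ := Nat.exists_eq_succ_of_ne_zero hp.ne'
  exact subsingleton_HH_of_isAffine hF m

/-- Modules of finite type living away from the open stratum. -/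
theorem subsingleton_HH_ft {k : ℕ} (ih : Vanishes.{u} k) (s : X → Fin (k + 2))
    (hs : ∀ i, IsClosed {x : X | s x ≤ i})
    (hst : ∀ i : Fin (k + 2), ∃ (Z : Scheme.{u}) (ι : Z ⟶ X),
      IsImmersion ι ∧ IsAffine Z ∧ IsAffineHom ι ∧ Set.range ι = {x : X | s x = i})
    {G : X.Modules} (hG : Coh.IsQCoh G) (hft : CohB1.IsFT G)
    (hsupp : ∀ x ∈ CohB1.support G, s x ≠ Fin.last (k + 1)) (p : ℕ) (hp : k < p) :
    Subsingleton (Coh.HH X G p) := by
  let I := annIdeal hG hft
  let i := I.subschemeι
  haveI : IsIso ((Scheme.Modules.pullbackPushforwardAdjunction i).unit.app G) :=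
    (isIso_unit_closed_iff i hG).2 fun U a ha t => by
      rw [show i.ker = I from I.ker_subschemeι] at ha
      exact Module.mem_annihilator.1 ha t
  have hrange : ∀ w, s (i w) ≠ Fin.last (k + 1) := fun w => hsupp _ (by
    have : i w ∈ (I.support : Set X) := I.range_subschemeι ▸ Set.mem_range_self w
    exact this)
  have hW : MoreMor.HasAffineStratification I.subscheme k := by
    refine ⟨fun w => (s (i w)).castLT (Fin.val_lt_last (hrange w)), fun j => ?_, fun j => ?_⟩
    · exact (hs j.castSucc).preimage i.continuous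
    · obtain ⟨Z, ι, hι, hZ, hA, hr⟩ := hst j.castSucc
      refine ⟨pullback ι i, pullback.snd ι i, inferInstance, isAffine_of_isAffineHom (pullback.fst ι i),
        MorphismProperty.pullback_snd (P := (@IsAffineHom : MorphismProperty Scheme.{u})) ι i hA, ?_⟩
      rw [Scheme.Pullback.range_snd, hr]
      ext w
      exact ⟨fun h => Fin.ext (by simpa using congrArg Fin.val h),
        fun h => Fin.ext (by simpa using congrArg Fin.val h)⟩
  have hpull := isQCoh_pullback i hG
  obtain ⟨e⟩ := HH_push_of_isAffineHom i hpull p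
  haveI := ih _ hW _ hpull p hp
  haveI : Subsingleton (Coh.HH X ((Coh.push i).obj ((Scheme.Modules.pullback i).obj G)) p) :=
    e.symm.toEquiv.subsingleton
  exact subsingleton_HH_of_iso (asIso ((Scheme.Modules.pullbackPushforwardAdjunction i).unit.app G)).symm p
    ‹Subsingleton (Coh.HH X ((Coh.push i).obj ((Scheme.Modules.pullback i).obj G)) p)›

theorem vanishes_succ {k : ℕ} (ih : Vanishes.{u} k) : Vanishes.{u} (k + 1) := by
  intro X hX F hF p hp
  obtain ⟨hc, hq⟩ := qcqs hX
  obtain ⟨s, hs, hst⟩ := hX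
  have hopen : IsOpen {x : X | s x = Fin.last (k + 1)} := by
    have : {x : X | s x = Fin.last (k + 1)} = {x : X | s x ≤ (Fin.last k).castSucc}ᶜ := by
      ext x
      simp only [Set.mem_setOf_eq, Set.mem_compl_iff, Fin.le_def, Fin.ext_iff, Fin.val_last, Fin.val_castSucc]
      omega
    rw [this]
    exact (hs _).isOpen_compl
  let U : X.Opens := ⟨_, hopen⟩
  obtain ⟨Z, ι, hι, hZ, hA, hr⟩ := hst (Fin.last (k + 1))
  obtain ⟨hU, hUι⟩ := open_stratum U ι hr
  haveI : IsAffine (U : Scheme.{u}) := hU
  -- vanishing for the modules living on the closed complement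
  have hclosed : ∀ (M : X.Modules), Coh.IsQCoh M → ZeroOn M U → ∀ q : ℕ, k < q → Subsingleton (Coh.HH X M q) := by
    intro M hM hz q hq'
    refine QcqsColim.subsingleton_HH_of_ftSub hM q fun N hN => ?_
    refine subsingleton_HH_ft ih s hs hst (isQCoh_of_ftOn hM hN) (isFT_of_ftOn hM hN) (fun x hx he => ?_) q hq'
    exact (hz.of_mono N.ι).support_subset (isQCoh_of_ftOn hM hN) hx he
  let J : X.Modules := (Scheme.Modules.pushforward U.ι).obj (F.restrict U.ι)
  let η : F ⟶ J := (Scheme.Modules.restrictAdjunction U.ι).unit.app F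
  have hJ : Coh.IsQCoh J := isQCoh_pushforward U.ι (isQCoh_restrict U.ι hF)
  have hJv : ∀ q, Subsingleton (Coh.HH X J (q + 1)) := fun q => by
    obtain ⟨e⟩ := HH_push_of_isAffineHom U.ι (isQCoh_restrict U.ι hF) (q + 1)
    haveI := subsingleton_HH_of_isAffine (isQCoh_restrict U.ι hF) q
    exact e.symm.toEquiv.subsingleton
  have hK : Coh.IsQCoh (kernel η) := isQCoh_kernel hF hJ η
  have hC : Coh.IsQCoh (cokernel η) := isQCoh_cokernel hF hJ η
  have hKz : ZeroOn (kernel η) U := fun V _ hVU => ⟨fun a b => app_injective (kernel.ι η) V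
    ((bijective_unit_app F U hVU).1 (by
      have h := fun c : Γ(kernel η, V) => congrArg (fun q : kernel η ⟶ J => q.app V c) (kernel.condition η)
      exact (h a).trans (h b).symm))⟩
  have hCz : ZeroOn (cokernel η) U := fun V hV hVU => ⟨fun a b => by
    have h0 : ∀ c : Γ(cokernel η, V), c = 0 := fun c => by
      obtain ⟨t, rfl⟩ := app_surjective_of_epi hJ hC (cokernel.π η) hV c
      obtain ⟨r, rfl⟩ := (bijective_unit_app F U hVU).2 t
      exact congrArg (fun q : F ⟶ cokernel η => q.app V r) (cokernel.condition η)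
    rw [h0 a, h0 b]⟩
  obtain ⟨m, rfl⟩ : ∃ m, p = m + 1 := Nat.exists_eq_succ_of_ne_zero (by omega)
  have hT : (ShortComplex.mk (Abelian.image.ι η) (cokernel.π η) (kernel.condition _)).ShortExact :=
    { exact := ShortComplex.exact_kernel _, mono_f := inferInstance, epi_g := inferInstance }
  have hI : Subsingleton (Coh.HH X (Abelian.image η) (m + 1)) :=
    CurveVanish.subsingleton_HH_X₁ hT m (hJv m) (hclosed _ hC hCz m (by omega))
  have hS : (ShortComplex.mk (kernel.ι η) (Abelian.factorThruImage η) (by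
      rw [← cancel_mono (Abelian.image.ι η), Category.assoc, Abelian.image.fac, kernel.condition, zero_comp])).ShortExact :=
    { exact := ShortComplex.exact_of_f_is_kernel _ (KernelFork.IsLimit.ofι' _ _ fun {A} k hk =>
        ⟨kernel.lift η k (by rw [← Abelian.image.fac η, reassoc_of% hk, zero_comp]), kernel.lift_ι _ _ _⟩)
      mono_f := inferInstance, epi_g := inferInstance }
  exact subsingleton_HH_X₂ hS (m + 1) (hclosed _ hK hKz _ (by omega)) hI

theorem vanishes : ∀ n, Vanishes.{u} n
  | 0 => vanishes_zero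
  | n + 1 => vanishes_succ (vanishes n)

end Groth.Agent.AffStrat
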